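import Cfsg.Agent.Hom.Basic
import Cfsg.Agent.Known.PSLAutOut
import Cfsg.Agent.Phan.Aut2
import Cfsg.Agent.CITCor.EPPO
import Cfsg.Agent.CITCor.EPPOGen
import Cfsg.Agent.Class.DicksonLemma

/-!
# Homogeneity for subgroups of odd order; the groups `L₂(q)` and `A₇`
-/

set_option autoImplicit false

namespace Cfsg.Lib.Homog

open Subgroup Matrix Cfsg.Lib.Known Cfsg.Lib.Class

variable {G : Type*} [Group G]

/-- Embeddings of subgroups of odd order extend to automorphisms. -/
def OH (G : Type*) [Group G] : Prop :=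
  ∀ A : Subgroup G, Odd (Nat.card A) → ∀ f : A →* G, Function.Injective f →
    ∃ φ : G ≃* G, ∀ a : A, φ a = f a

theorem IsHom.oh (h : IsHom G) : OH G := fun A _ => h.ext_hom A

theorem OH.ext (h : OH G) {A : Type*} [Group A] (hA : Odd (Nat.card A)) (u w : A →* G)
    (hu : Function.Injective u) (hw : Function.Injective w) :
    ∃ φ : G ≃* G, ∀ a, φ (u a) = w a := by
  let e := MonoidHom.ofInjective hu
  obtain ⟨φ, hφ⟩ := h u.range (by rwa [← Nat.card_congr e.toEquiv])
    (w.comp e.symm.toMonoidHom) (hw.comp e.symm.injective)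
  exact ⟨φ, fun a => (hφ (e a)).trans (by simp)⟩

theorem OH.of_equiv (h : OH G) {K : Type*} [Group K] (e : G ≃* K) : OH K := fun A hA f hf => by
  obtain ⟨φ, hφ⟩ := h.ext hA (e.symm.toMonoidHom.comp A.subtype) (e.symm.toMonoidHom.comp f)
    (e.symm.injective.comp A.subtype_injective) (e.symm.injective.comp hf)
  exact ⟨e.symm.trans (φ.trans e), fun a => by simpa using congrArg e (hφ a)⟩

theorem OH.exists_aut [Finite G] (h : OH G) {x y : G} (hx : Odd (orderOf x))
    (hxy : orderOf x = orderOf y) : ∃ φ : G ≃* G, φ x = y := by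
  obtain ⟨f, hf, h1, -⟩ := exists_hom_zpowers hxy
  obtain ⟨φ, hφ⟩ := h _ (by rwa [Nat.card_zpowers]) f hf
  exact ⟨φ, (hφ ⟨x, mem_zpowers x⟩).trans h1⟩

theorem exists_section [Finite G] (N : Subgroup G) [N.Normal] (hN : IsPGroup 2 N) {A : Type*}
    [Group A] (hA : Odd (Nat.card A)) (u : A →* G ⧸ N) (hu : Function.Injective u) :
    ∃ s : A →* G, Function.Injective s ∧ ∀ a, (s a : G ⧸ N) = u a := by
  let e := MonoidHom.ofInjective hu
  obtain ⟨k, hk⟩ := IsPGroup.iff_card.1 hN
  obtain ⟨H, hH, hc⟩ := CITCor.exists_lift_of_coprime N u.range (by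
    rw [hk, ← Nat.card_congr e.toEquiv]; exact (Nat.coprime_two_left.2 hA).pow_left k)
  let r : H →* u.range := ((QuotientGroup.mk' N).comp H.subtype).codRestrict _
    fun x => hH ▸ mem_map_of_mem _ x.2
  have hr : Function.Bijective r := (Nat.bijective_iff_surjective_and_card r).2 ⟨fun y => by
    obtain ⟨x, hx, h⟩ := hH.ge y.2
    exact ⟨⟨x, hx⟩, Subtype.ext h⟩, hc⟩
  let r' := MulEquiv.ofBijective r hr
  refine ⟨H.subtype.comp (e.trans r'.symm).toMonoidHom,
    H.subtype_injective.comp (e.trans r'.symm).injective, fun a => ?_⟩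
  exact congrArg Subtype.val (r'.apply_symm_apply (e a))

theorem OH.quotient [Finite G] (h : OH G) (hZ : IsPGroup 2 (center G)) : OH (G ⧸ center G) := by
  intro A hA f hf
  obtain ⟨s, hs, hs'⟩ := exists_section _ hZ hA A.subtype A.subtype_injective
  obtain ⟨t, ht, ht'⟩ := exists_section _ hZ hA f hf
  obtain ⟨φ, hφ⟩ := h.ext hA s t hs ht
  refine ⟨autQuot G φ, fun a => ?_⟩
  rw [← ht', ← hφ, ← autQuot_mk, hs']
  rfl

theorem not_oh_alt7 : ¬ OH (alternatingGroup (Fin 7)) := by
  intro h
  let x : alternatingGroup (Fin 7) := ⟨c[0, 1, 2], Equiv.Perm.mem_alternatingGroup.2 (by decide)⟩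
  let y : alternatingGroup (Fin 7) :=
    ⟨c[0, 1, 2] * c[3, 4, 5], Equiv.Perm.mem_alternatingGroup.2 (by decide)⟩
  let a : alternatingGroup (Fin 7) :=
    ⟨Equiv.swap 3 4 * Equiv.swap 5 6, Equiv.Perm.mem_alternatingGroup.2 (by decide)⟩
  let b : alternatingGroup (Fin 7) :=
    ⟨Equiv.swap 3 5 * Equiv.swap 4 6, Equiv.Perm.mem_alternatingGroup.2 (by decide)⟩
  have : Fact (Nat.Prime 3) := ⟨by norm_num⟩
  have hx : orderOf x = 3 := orderOf_eq_prime (by decide) (by decide)
  have hy : orderOf y = 3 := orderOf_eq_prime (by decide) (by decide)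
  obtain ⟨φ, hφ⟩ := h.exists_aut (x := x) (y := y) (by rw [hx]; decide) (hx.trans hy.symm)
  let V : Subgroup (alternatingGroup (Fin 7)) :=
    { carrier := {1, a, b, a * b}
      one_mem' := by simp
      mul_mem' := by
        rintro _ _ (rfl | rfl | rfl | rfl) (rfl | rfl | rfl | rfl) <;>
          simp only [Set.mem_insert_iff, Set.mem_singleton_iff] <;> decide
      inv_mem' := by
        rintro _ (rfl | rfl | rfl | rfl) <;>
          simp only [Set.mem_insert_iff, Set.mem_singleton_iff] <;> decide }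
  have hV : Nat.card V = 4 := by
    change Nat.card ({1, a, b, a * b} : Set _) = 4
    rw [Nat.card_coe_set_eq, Set.ncard_insert_of_notMem, Set.ncard_insert_of_notMem,
      Set.ncard_pair] <;> (try simp only [Set.mem_insert_iff, Set.mem_singleton_iff]) <;> decide
  have hC : Nat.card (centralizer {(y : Equiv.Perm (Fin 7))}) = 18 := by
    have : (y : Equiv.Perm (Fin 7)).cycleType = {3, 3} := by decide
    rw [Equiv.Perm.nat_card_centralizer, this]; decide
  have h4 := card_dvd_of_injective
    ((((alternatingGroup (Fin 7)).subtype.comp φ.toMonoidHom).comp V.subtype).codRestrict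
      (centralizer {(y : Equiv.Perm (Fin 7))}) fun v => by
        have : (v : alternatingGroup (Fin 7)) * x = x * v := by
          obtain ⟨_, rfl | rfl | rfl | rfl⟩ := v <;> decide
        have h1 := congrArg (fun t => (φ t : Equiv.Perm (Fin 7))) this
        simpa [mem_centralizer_singleton_iff, hφ] using h1)
    fun v w hvw => by
      have := congrArg Subtype.val hvw
      exact Subtype.ext (φ.injective (Subtype.ext this))
  rw [hV, hC] at h4
  omega

section
variable {F : Type*} [Field F]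

theorem sl2_sq (Y : SpecialLinearGroup (Fin 2) F) :
    Y.1 * Y.1 = Y.1.trace • Y.1 - 1 := by
  have h := Y.2
  rw [det_fin_two] at h
  ext i j; fin_cases i <;> fin_cases j <;> simp [mul_apply, Fin.sum_univ_two, trace_fin_two] <;>
    first | ring1 | linear_combination -h

theorem trace_conjSL (g : GL (Fin 2) F) (Y : SpecialLinearGroup (Fin 2) F) :
    (conjSL (Fin 2) F g Y).1.trace = Y.1.trace := by
  rw [coe_conjSL, trace_mul_cycle, Units.inv_mul, one_mul]

theorem ringAut_eq_one [Fintype F] (hp : (Fintype.card F).Prime) (σ : RingAut F) : σ = 1 := by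
  have := Fact.mk hp
  ext x
  obtain ⟨a, rfl⟩ := (ZMod.ringEquivOfPrime F hp rfl).surjective x
  have := DFunLike.congr_fun (Subsingleton.elim
    (σ.toRingHom.comp (ZMod.ringEquivOfPrime F hp rfl).toRingHom)
    (ZMod.ringEquivOfPrime F hp rfl).toRingHom) a
  exact this

theorem OH.card_prime [Fintype F] (hF : Odd (Fintype.card F))
    (h : OH (ProjectiveSpecialLinearGroup (Fin 2) F)) : (Fintype.card F).Prime := by
  obtain ⟨p, _, n, hp, hn⟩ := FiniteField.card' F
  have := Fact.mk hp
  let _ := ZMod.algebra F p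
  have h2 : (2 : F) ≠ 0 := fun h0 => by
    have h1 : p ∣ 2 := (CharP.cast_eq_zero_iff F p 2).1 (by exact_mod_cast h0)
    rw [hn, (Nat.prime_dvd_prime_iff_eq hp Nat.prime_two).1 h1] at hF
    exact (Nat.not_even_iff_odd.2 hF) (Nat.even_pow.2 ⟨even_two, n.ne_zero⟩)
  suffices hs : Function.Surjective (algebraMap (ZMod p) F) by
    rwa [← Fintype.card_congr (Equiv.ofBijective _ ⟨(algebraMap (ZMod p) F).injective, hs⟩),
      ZMod.card]
  intro s
  by_contra hs
  obtain ⟨l, hl, hl1⟩ := Submodule.exists_le_ker_of_notMem (p := Submodule.span (ZMod p) {(1 : F)})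
    (v := s) fun h => by
      obtain ⟨a, ha⟩ := Submodule.mem_span_singleton.1 h
      exact hs ⟨a, by rw [← ha, Algebra.algebraMap_eq_smul_one]⟩
  have hl0 : ∀ a, l (algebraMap (ZMod p) F a) = 0 := fun a => hl1 (by
    rw [Algebra.algebraMap_eq_smul_one]; exact Submodule.smul_mem _ _ (Submodule.mem_span_singleton_self _))
  let u : Multiplicative F →* ProjectiveSpecialLinearGroup (Fin 2) F :=
    MonoidHom.mk' (fun x => QuotientGroup.mk (slU x.toAdd)) fun x y => by
      rw [← QuotientGroup.mk_mul, ← slU_add]; rfl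
  have hu : Function.Injective u := fun x y hxy => by
    obtain ⟨c, hc⟩ := PSL_mk_eq_mk_iff.1 hxy
    have h1 := congrFun (congrFun hc 0) 0
    have h2 := congrFun (congrFun hc 0) 1
    simp at h1 h2
    rw [← h1, one_mul] at h2
    exact Multiplicative.toAdd.injective h2.symm
  let ψ : Multiplicative F →* Multiplicative F :=
    MonoidHom.mk' (fun x => .ofAdd (x.toAdd + algebraMap (ZMod p) F (l x.toAdd))) fun x y => by
      rw [← ofAdd_add]; congr 1; simp only [toAdd_mul, map_add]; ring
  have hψ : Function.Injective ψ := (injective_iff_map_eq_one _).2 fun x hx => by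
    have h1 : x.toAdd + algebraMap (ZMod p) F (l x.toAdd) = 0 := hx
    have h2 := congrArg l h1
    rw [map_add, hl0, add_zero, map_zero] at h2
    rw [h2, map_zero, add_zero] at h1
    exact h1
  obtain ⟨φ, hφ⟩ := h.ext (A := Multiplicative F) (by simpa using hF) u (u.comp ψ) hu (hu.comp hψ)
  obtain ⟨g, σ, rfl⟩ := PSL_aut_eq_two φ
  have key : ∀ x : F, ∃ c : F, g.1 * !![1, σ x; 0, 1] =
      c • (!![1, x + algebraMap (ZMod p) F (l x); 0, 1] * g.1) := fun x => by
    obtain ⟨c, hc⟩ := (PSL_mk_eq_mk_iff (s := slU (x + algebraMap (ZMod p) F (l x)))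
      (t := conjSL _ F g (fieldSL _ F σ (slU x)))).1 (hφ (.ofAdd x)).symm
    refine ⟨c, ?_⟩
    rw [coe_conjSL, coe_fieldSL] at hc
    have := congrArg (· * g.1) hc
    simp only [mul_assoc, Units.inv_mul, mul_one, smul_mul_assoc] at this
    rw [show (!![1, σ x; 0, 1] : Matrix (Fin 2) (Fin 2) F) = (slU x).1.map σ by
      ext i j; fin_cases i <;> fin_cases j <;> simp]
    exact this
  have hd := g.det_ne_zero
  rw [det_fin_two] at hd
  obtain ⟨c, hc⟩ := key 1
  have l1 : l 1 = 0 := by simpa using hl0 1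
  have e00 := congrFun (congrFun hc 0) 0
  have e01 := congrFun (congrFun hc 0) 1
  have e10 := congrFun (congrFun hc 1) 0
  have e11 := congrFun (congrFun hc 1) 1
  simp [mul_apply, Fin.sum_univ_two, l1, vecMul, dotProduct] at e00 e01 e10 e11
  have g10 : g.1 1 0 = 0 := by
    by_contra h0
    have : c = 1 := mul_right_cancel₀ h0 (by rw [← e10, one_mul])
    exact h0 (by rw [this] at e00; linear_combination -e00)
  have g11 : g.1 1 1 ≠ 0 := fun h0 => hd (by rw [g10, h0]; ring)
  have c1 : c = 1 := mul_right_cancel₀ g11 (by rw [← e11, g10]; ring)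
  have hσ : ∀ x, σ x = x + algebraMap (ZMod p) F (l x) := fun x => by
    obtain ⟨d, hd⟩ := key x
    have f01 := congrFun (congrFun hd 0) 1
    have f11 := congrFun (congrFun hd 1) 1
    simp [mul_apply, Fin.sum_univ_two, g10, vecMul, dotProduct] at f01 f11
    have d1 : d = 1 := mul_right_cancel₀ g11 (by rw [← f11]; ring)
    rw [c1] at e01
    rw [d1] at f01
    exact mul_right_cancel₀ g11 (by linear_combination f01 - σ x * e01)
  have h3 := map_mul σ s s
  rw [hσ, hσ] at h3
  have h4 : algebraMap (ZMod p) F (l s) ≠ 0 := by simpa using hl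
  have h5 : algebraMap (ZMod p) F 2 = 2 := map_ofNat _ 2
  refine hs ⟨(l (s * s) - l s ^ 2) / (2 * l s), ?_⟩
  simp only [map_div₀, map_sub, map_mul, map_pow, h5]
  generalize l (s * s) = r at h3
  field_simp
  linear_combination h3

theorem OH.card_eq [Fintype F] (hF : Odd (Fintype.card F)) (h5 : 3 < Fintype.card F)
    (h : OH (ProjectiveSpecialLinearGroup (Fin 2) F)) :
    Fintype.card F = 5 ∨ Fintype.card F = 7 := by
  have hp := h.card_prime hF
  have hchar : ((Fintype.card F : ℕ) : F) = 0 := FiniteField.cast_card_eq_zero F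
  have key : ∀ y : ProjectiveSpecialLinearGroup (Fin 2) F, Odd (orderOf y) →
      orderOf y ∣ 3 ∨ orderOf y ∣ Fintype.card F := fun y hy => by
    obtain ⟨φ, hφ⟩ := h.exists_aut (y := y ^ 2) hy
      ((Nat.coprime_two_right.2 hy).orderOf_pow).symm
    obtain ⟨g, σ, rfl⟩ := PSL_aut_eq_two φ
    obtain ⟨Y, rfl⟩ := QuotientGroup.mk_surjective y
    rw [ringAut_eq_one hp σ, map_one, mul_one, innD_mk, ← QuotientGroup.mk_pow] at hφ
    obtain ⟨c, hc⟩ := PSL_mk_eq_mk_iff.1 hφ
    have h1 := congrArg det hc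
    have h2 := congrArg trace hc
    rw [det_smul, Matrix.SpecialLinearGroup.det_coe, Matrix.SpecialLinearGroup.det_coe] at h1
    rw [trace_smul, trace_conjSL, pow_two, Matrix.SpecialLinearGroup.coe_mul, sl2_sq] at h2
    simp at h1 h2
    have hsq := sl2_sq Y
    generalize Y.1.trace = τ at h2 hsq
    have h3 : (τ ^ 2 - 1) * (τ ^ 2 - 4) = 0 := by
      linear_combination (τ ^ 2 - 2 + c * τ) * h2 - τ ^ 2 * h1
    simp only [orderOf_dvd_iff_pow_eq_one, ← QuotientGroup.mk_pow]
    rcases mul_eq_zero.1 h3 with h4 | h4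
    · refine .inl (PSL_mk_eq_mk_iff (s := 1).2 ⟨-τ, ?_⟩).symm
      rw [Matrix.SpecialLinearGroup.coe_pow, pow_succ, pow_two, hsq, sub_mul, smul_mul_assoc, hsq,
        smul_sub, smul_smul, show τ * τ = 1 by linear_combination h4]
      simp
    · have h2' : (2 : F) ≠ 0 := fun h0 => by
        obtain ⟨k, hk⟩ := hF
        rw [hk] at hchar
        simp [h0] at hchar
      have hk : ∀ k : ℕ, Y.1 ^ (k + 1) =
          (τ / 2) ^ (k + 1) • 1 + ((k + 1 : ℕ) * (τ / 2) ^ k) • (Y.1 - (τ / 2) • 1) := fun k => by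
        induction k with
        | zero => simp
        | succ k ih =>
          rw [pow_succ, ih, add_mul, smul_mul_assoc, smul_mul_assoc, sub_mul, hsq, smul_mul_assoc,
            one_mul]
          have : (τ / 2) * (τ / 2) = 1 := by field_simp; linear_combination h4
          generalize hc : τ / 2 = c at this
          have hτ : τ = 2 * c := by rw [← hc]; field_simp
          ext i j
          simp only [Matrix.add_apply, Matrix.smul_apply, Matrix.sub_apply, smul_eq_mul, hτ]
          push_cast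
          linear_combination ((k + 1) * c ^ k * (1 : Matrix (Fin 2) (Fin 2) F) i j) * this
      refine .inr (PSL_mk_eq_mk_iff (s := 1).2 ⟨(τ / 2) ^ Fintype.card F, ?_⟩).symm
      obtain ⟨k, hk'⟩ : ∃ k, Fintype.card F = k + 1 := ⟨Fintype.card F - 1, by omega⟩
      rw [hk'] at hchar
      rw [Matrix.SpecialLinearGroup.coe_pow, hk', hk, hchar]
      simp
  obtain ⟨⟨x, hx⟩, y, hy⟩ := CITCor.exists_orderOf_psl2 F
  obtain ⟨k, hk⟩ := hF
  have hg : Nat.gcd 2 (Fintype.card F - 1) = 2 := Nat.gcd_eq_left ⟨k, by omega⟩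
  rw [hg, show (Fintype.card F - 1) / 2 = k by omega] at hx
  rw [hg, show (Fintype.card F + 1) / 2 = k + 1 by omega] at hy
  have aux : ∀ m, m ∣ 3 ∨ m ∣ Fintype.card F → m = 1 ∨ m = 3 ∨ m = Fintype.card F := by
    rintro m (h | h)
    · rcases (Nat.dvd_prime Nat.prime_three).1 h with h | h <;> simp [h]
    · rcases (Nat.dvd_prime hp).1 h with h | h <;> simp [h]
  rcases Nat.even_or_odd k with h1 | h1
  · have := aux _ (key y (hy ▸ h1.add_one))
    omega
  · have := aux _ (key x (hx ▸ h1))
    omega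

theorem not_isHom_sl27 [Fintype F] (hF : Fintype.card F = 7) {G : Type*} [Group G] (h : IsHom G)
    (e : G ≃* SpecialLinearGroup (Fin 2) F) : False := by
  have h7 : (7 : F) = 0 := by simpa [hF] using FiniteField.cast_card_eq_zero F
  have : Finite G := Finite.of_equiv _ e.symm.toEquiv
  let X : SpecialLinearGroup (Fin 2) F := ⟨!![0, -1; 1, 3], by simp [det_fin_two]⟩
  have hX : X ^ 4 = -1 := by
    apply Subtype.ext
    change X.1 ^ 4 = -1
    simp only [X, pow_succ, pow_zero, one_mul]
    ext i j; fin_cases i <;> fin_cases j <;> simp [mul_apply, Fin.sum_univ_two]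
    · linear_combination -h7
    · linear_combination -3 * h7
    · linear_combination 3 * h7
    · linear_combination 8 * h7
  have ho : (orderOf (e.symm X)).Coprime 5 := by
    refine Nat.Coprime.coprime_dvd_left (orderOf_dvd_of_pow_eq_one (n := 8) ?_) (by norm_num)
    rw [← map_pow, show 8 = 4 * 2 from rfl, pow_mul, hX]; simp
  obtain ⟨φ, hφ⟩ := h.exists_aut ho.orderOf_pow.symm
  obtain ⟨g, σ, hg⟩ := Phan.sl2_aut (e.symm.trans (φ.trans e))
  have h1 := DFunLike.congr_fun hg X
  rw [ringAut_eq_one (by rw [hF]; norm_num) σ, map_one, mul_one] at h1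
  have h2 := trace_conjSL g X
  rw [← h1] at h2
  simp only [MulEquiv.trans_apply, hφ, map_pow, MulEquiv.apply_symm_apply] at h2
  rw [pow_succ, hX, neg_one_mul, Matrix.SpecialLinearGroup.coe_neg] at h2
  simp [X, trace_fin_two] at h2
  exact one_ne_zero (α := F) (by linear_combination h7 + h2)

/-- Every automorphism of `L₂(p)` is an involution modulo inner automorphisms, in a strong sense. -/
theorem exists_sq_eq_one [Fintype F] (hp : (Fintype.card F).Prime)
    (β : MulAut (ProjectiveSpecialLinearGroup (Fin 2) F)) :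
    ∃ k, (MulAut.conj k * β) * (MulAut.conj k * β) = 1 := by
  obtain ⟨g, σ, rfl⟩ := PSL_aut_eq_two β
  rw [ringAut_eq_one hp σ, map_one, mul_one]
  let w : GL (Fin 2) F := GeneralLinearGroup.mkOfDetNeZero !![0, -g.1.det; 1, 0]
    (by simpa [det_fin_two (!![0, -g.1.det; 1, 0])] using g.det_ne_zero)
  have hw : w.1.det = g.1.det := by
    change det !![0, -g.1.det; 1, 0] = _
    simp [det_fin_two (!![0, -g.1.det; 1, 0])]
  let k : SpecialLinearGroup (Fin 2) F := ⟨(w * g⁻¹).1, by
    rw [Units.val_mul, det_mul, hw, ← det_mul, Units.mul_inv, det_one]⟩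
  have hk : SpecialLinearGroup.toGL k * g = w := by
    rw [show SpecialLinearGroup.toGL k = w * g⁻¹ from Units.ext rfl, inv_mul_cancel_right]
  refine ⟨QuotientGroup.mk k, ?_⟩
  rw [← innD_toGL, ← map_mul, hk, ← map_mul, innD_eq_one_iff,
    GeneralLinearGroup.mem_center_iff_val_mem_range_scalar]
  refine ⟨-g.1.det, ?_⟩
  change _ = !![0, -g.1.det; 1, 0] * !![0, -g.1.det; 1, 0]
  ext i j; fin_cases i <;> fin_cases j <;> simp [mul_apply, Fin.sum_univ_two]

end

end Cfsg.Lib.Homog
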