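import Cfsg.Agent.Hom.L2
import Cfsg.Agent.CITCor.U3
import Cfsg.Agent.Perm.UnitMat
import Cfsg.Agent.Class.HermField
import Cfsg.Agent.Solv.ElemAb
import Cfsg.Agent.S0434
import Cfsg.Agent.S0435

/-!
# The groups `L₃(q)`, `U₃(q)` and `M₁₁` are not homogeneous
-/

set_option autoImplicit false

namespace Cfsg.Lib.Homog

open Subgroup Matrix Cfsg.Lib.Known Cfsg.Lib.Class

variable {F : Type*} [Field F]

theorem commute_of_cyclic {X A B : Matrix (Fin 3) (Fin 3) F} {v : Fin 3 → F}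
    (hv : (of ![v, X *ᵥ v, (X * X) *ᵥ v]).det ≠ 0) (hA : Commute A X) (hB : Commute B X) :
    Commute A B := by
  set P : Matrix (Fin 3) (Fin 3) F := (of ![v, X *ᵥ v, (X * X) *ᵥ v])ᵀ with hP
  have hu : IsUnit P.det := by rw [hP, det_transpose]; exact hv.isUnit
  have h0 : ∀ D : Matrix (Fin 3) (Fin 3) F, Commute D X → D *ᵥ v = 0 → D = 0 := fun D hD h => by
    have h1 : D *ᵥ (X *ᵥ v) = 0 := by rw [mulVec_mulVec, hD.eq, ← mulVec_mulVec, h, mulVec_zero]
    have h2 : D *ᵥ ((X * X) *ᵥ v) = 0 := by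
      rw [mulVec_mulVec, (hD.mul_right hD).eq, ← mulVec_mulVec, h, mulVec_zero]
    have h3 : D * P = 0 := by
      ext i j; fin_cases j
      · exact congrFun h i
      · exact congrFun h1 i
      · exact congrFun h2 i
    rw [← mul_nonsing_inv_cancel_right P D hu, h3, zero_mul]
  obtain ⟨w, hw⟩ : ∃ w, P *ᵥ w = A *ᵥ v :=
    ⟨P⁻¹ *ᵥ (A *ᵥ v), by rw [mulVec_mulVec, mul_nonsing_inv _ hu, one_mulVec]⟩
  have hc : ∀ {Y}, Commute X Y → Commute (w 0 • 1 + w 1 • X + w 2 • (X * X)) Y := fun h =>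
    (((Commute.one_left _).smul_left _).add_left (h.smul_left _)).add_left
      ((h.mul_left h).smul_left _)
  have h1 := h0 _ (hA.sub_left (hc (.refl X))) (by
    rw [sub_mulVec, ← hw, add_mulVec, add_mulVec, smul_mulVec, smul_mulVec, smul_mulVec, one_mulVec]
    ext i
    simp [hP, mulVec, dotProduct, Fin.sum_univ_three, mul_comm])
  rw [sub_eq_zero.1 h1]
  exact hc hB.symm

theorem not_oh_three {H K : Type*} [Group H] [Group K] [Finite K]
    (m : H →* Matrix (Fin 3) (Fin 3) F) (π : H →* K) (hs : Function.Surjective π)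
    (hπ : ∀ s t, π s = π t ↔ ∃ c : F, m t = c • m s) (hdet : ∀ s, (m s).det = 1) {n : ℕ}
    [Fact n.Prime] (hn : Odd n) (hc : ∀ c : F, c ^ n = 1 → c ^ 3 = 1 → c = 1) {x y b : H}
    (hx : m x ^ n = 1) (hy : m y ^ n = 1) (hy1 : ∀ c : F, m y ≠ c • 1) {v : Fin 3 → F}
    (hv : (of ![v, m x *ᵥ v, (m x * m x) *ᵥ v]).det ≠ 0) (ha : Commute (m x) (m y))
    (hb : Commute (m b) (m y)) (hab : ∀ c : F, m x * m b ≠ c • (m b * m x)) : ¬ OH K := by
  intro h
  have h1 : ∀ s, m s ^ n = 1 → (∀ c : F, m s ≠ c • 1) → orderOf (π s) = n := fun s h1 h2 =>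
    orderOf_eq_prime (by
      rw [← map_pow, ← map_one π, hπ]; exact ⟨1, by simp [h1]⟩) fun h3 => by
      obtain ⟨c, hc⟩ := (hπ 1 s).1 (by rw [h3, map_one])
      exact h2 c (by simpa using hc)
  have hxo := h1 x hx fun c h => hab 1 (by rw [h]; simp)
  obtain ⟨φ, hφ⟩ := h.exists_aut (x := π y) (y := π x) (by rwa [h1 y hy hy1])
    (by rw [hxo, h1 y hy hy1])
  have key : ∀ s, Commute (m s) (m y) → ∃ g, π g = φ (π s) ∧ Commute (m g) (m x) := fun s h => by
    obtain ⟨g, hg⟩ := hs (φ (π s))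
    refine ⟨g, hg, ?_⟩
    obtain ⟨c, hc'⟩ := (hπ (g * x) (x * g)).1 (by
      rw [map_mul, map_mul, hg, ← hφ, ← map_mul, ← map_mul, ← map_mul, ← map_mul]
      exact congrArg φ ((hπ _ _).2 ⟨1, by simp [h.eq]⟩))
    rw [map_mul, map_mul] at hc'
    have h2 : ∀ k : ℕ, m x ^ k * m g = c ^ k • (m g * m x ^ k) := fun k => by
      induction k with
      | zero => simp
      | succ k ih =>
        rw [pow_succ, mul_assoc, hc', mul_smul_comm, ← mul_assoc, ih, smul_mul_assoc, smul_smul,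
          mul_assoc, ← pow_succ' c]
    have h3 := congrArg (· * m g⁻¹) (h2 n)
    simp only [hx, one_mul, mul_one, smul_mul_assoc, ← map_mul, mul_inv_cancel, map_one] at h3
    have h4 := congrArg det hc'
    simp only [det_mul, det_smul, hdet, mul_one, Fintype.card_fin] at h4
    rw [hc c (by simpa using (congrFun (congrFun h3 0) 0).symm) h4.symm, one_smul] at hc'
    exact hc'.symm
  obtain ⟨g₁, e₁, c₁⟩ := key x ha
  obtain ⟨g₂, e₂, c₂⟩ := key b hb
  have h5 : π (g₁ * g₂) = π (g₂ * g₁) :=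
    (hπ _ _).2 ⟨1, by simp [(commute_of_cyclic hv c₁ c₂).eq]⟩
  rw [map_mul, map_mul, e₁, e₂, ← map_mul φ, ← map_mul φ, φ.injective.eq_iff, ← map_mul,
    ← map_mul] at h5
  obtain ⟨c, hc⟩ := (hπ _ _).1 h5.symm
  exact hab c (by simpa using hc)

/-- A Heisenberg group of unipotent matrices. -/
def gm (ε ε' α α' β : F) : Matrix (Fin 3) (Fin 3) F :=
  !![1 + β, β * ε', α; β * ε, 1 + β * (ε * ε'), α * ε; -α', -α' * ε', 1]

theorem gm_mul {ε ε' : F} (h : ε * ε' = -1) (α α' β γ γ' δ : F) :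
    gm ε ε' α α' β * gm ε ε' γ γ' δ = gm ε ε' (α + γ) (α' + γ') (β + δ - α * γ') := by
  have h0 : ε ≠ 0 := fun h0 => by simp [h0] at h
  obtain rfl : ε' = -ε⁻¹ := by field_simp; linear_combination h
  ext i j; fin_cases i <;> fin_cases j <;> simp [gm, mul_apply, Fin.sum_univ_three] <;>
    field_simp <;> ring

theorem gm_zero (ε ε' : F) : gm ε ε' 0 0 0 = 1 := by
  ext i j; fin_cases i <;> fin_cases j <;> simp [gm]

theorem det_gm {ε ε' : F} (h : ε * ε' = -1) (α α' β : F) : (gm ε ε' α α' β).det = 1 := by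
  simp [gm, det_fin_three]
  linear_combination (β + α * α') * h

theorem gm_pow {ε ε' : F} (h : ε * ε' = -1) (α α' β : F) (k : ℕ) :
    gm ε ε' α α' β ^ k = gm ε ε' (k * α) (k * α') (k * β - (k.choose 2) * (α * α')) := by
  induction k with
  | zero => simp [gm_zero]
  | succ k ih =>
    rw [pow_succ, ih, gm_mul h, Nat.choose_succ_succ' k 1]
    congr 1 <;> simp only [Nat.cast_add, Nat.cast_one, Nat.choose_one_right] <;> ring

theorem not_oh_unip {H K : Type*} [Group H] [Group K] [Finite K] [Fintype F]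
    (hF : Odd (Fintype.card F)) (m : H →* Matrix (Fin 3) (Fin 3) F) (π : H →* K)
    (hs : Function.Surjective π) (hπ : ∀ s t, π s = π t ↔ ∃ c : F, m t = c • m s)
    (hdet : ∀ s, (m s).det = 1) {ε ε' c β δ : F} (h : ε * ε' = -1) (hc : c ≠ 0) {x y b : H}
    (hx : m x = gm ε ε' 1 1 β) (hy : m y = gm ε ε' 0 0 c) (hb : m b = gm ε ε' c (-c) δ) :
    ¬ OH K := by
  obtain ⟨p, _, n, hp, hn⟩ := FiniteField.card' F
  have := Fact.mk hp
  have hp2 : Odd p := hp.odd_of_ne_two fun h2 => by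
    rw [hn, h2] at hF
    exact (Nat.not_even_iff_odd.2 hF) (Nat.even_pow.2 ⟨even_two, n.ne_zero⟩)
  have h2 : (2 : F) ≠ 0 := fun h0 => by
    obtain ⟨k, hk⟩ := hp2
    have := CharP.cast_eq_zero F p
    simp [hk, h0] at this
  have hpow : ∀ α α' β, gm ε ε' α α' β ^ p = 1 := fun α α' β => by
    have : ((p.choose 2 : ℕ) : F) = 0 := (CharP.cast_eq_zero_iff F p _).2
      (hp.dvd_choose_self two_ne_zero (by have := hp.two_le; obtain ⟨k, hk⟩ := hp2; omega))
    rw [gm_pow h, this]; simp [gm_zero]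
  have h0 : ε ≠ 0 := fun h0 => by simp [h0] at h
  refine not_oh_three m π hs hπ hdet hp2 (fun c h1 _ => ?_) (x := x) (y := y) (b := b)
    (hx ▸ hpow _ _ _) (hy ▸ hpow _ _ _) (fun d hd => ?_) (v := ![1, 0, 0]) ?_ ?_ ?_ fun d hd => ?_
  · exact frobenius_inj F p (by simpa [frobenius_def] using h1)
  · have := congrFun (congrFun (hy ▸ hd) 1) 0
    simp [gm, hc, h0] at this
  · rw [hx, gm_mul h]
    simp [gm, det_fin_three, mulVec, dotProduct, Fin.sum_univ_three]
    intro h3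
    exact h0 (by linear_combination -h3)
  · rw [hx, hy, commute_iff_eq, gm_mul h, gm_mul h]; congr 1 <;> ring
  · rw [hb, hy, commute_iff_eq, gm_mul h, gm_mul h]; congr 1 <;> ring
  · rw [hx, hb, gm_mul h, gm_mul h] at hd
    have h3 := congrFun (congrFun hd 2) 2
    have h4 := congrFun (congrFun hd 0) 0
    simp [gm] at h3 h4
    rw [← h3] at h4
    exact mul_ne_zero h2 hc (by linear_combination h4)

theorem not_oh_psl3 [Fintype F] (hF : Odd (Fintype.card F)) :
    ¬ OH (ProjectiveSpecialLinearGroup (Fin 3) F) := by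
  have h : (1 : F) * -1 = -1 := one_mul _
  exact not_oh_unip hF (Matrix.SpecialLinearGroup.coeMonoidHom) (QuotientGroup.mk' _)
    (QuotientGroup.mk'_surjective _) (fun _ _ => PSL_mk_eq_mk_iff) (fun s => s.2) h one_ne_zero
    (x := ⟨_, det_gm h 1 1 0⟩) (y := ⟨_, det_gm h 0 0 1⟩) (b := ⟨_, det_gm h 1 (-1) 0⟩) rfl rfl rfl

theorem not_oh_psu3 [Fintype F] {q : ℕ} (hF : Fintype.card F = q ^ 2) (hq : Odd q) :
    ¬ OH (PSU 3 F q) := by
  set σ := frobq hF
  have hσ := frobq_frobq hF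
  obtain ⟨ε, h⟩ := Form.exists_norm_eq (frobq_ne_id hF) hσ (μ := -1) (by simp only [map_neg, map_one])
  obtain ⟨s, hs⟩ := DFunLike.ne_iff.1 (frobq_ne_id hF)
  have h' : ε * σ ε = -1 := by rw [mul_comm, h]
  have h2 : (2 : F) ≠ 0 := fun h0 => by
    obtain ⟨k, hk⟩ := hF ▸ hq.pow (n := 2)
    have := FiniteField.cast_card_eq_zero F
    simp [hk, h0] at this
  have mem : ∀ α β, β + σ β + α * σ α = 0 →
      (⟨_, det_gm h' α (σ α) β⟩ : Matrix.SpecialLinearGroup (Fin 3) F) ∈ SU 3 F q := fun α β hb => by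
    refine (Perm.mem_SU_iff_mul σ (fun _ => rfl) _).2 ?_
    have h3 : (gm ε (σ ε) α (σ α) β)ᵀ = gm (σ ε) ε (-σ α) (-α) β := by
      ext i j; fin_cases i <;> fin_cases j <;> simp [gm, -frobq_apply, mul_comm]
    have h4 : (gm ε (σ ε) α (σ α) β).map σ = gm (σ ε) ε (σ α) α (σ β) := by
      ext i j; fin_cases i <;> fin_cases j <;> simp [gm, -frobq_apply, σ, hσ]
    change (gm _ _ _ _ _)ᵀ * (gm _ _ _ _ _).map σ = 1
    rw [h3, h4, gm_mul h, ← gm_zero (σ ε) ε]
    congr 1
    · ring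
    · ring
    · linear_combination hb
  set c := σ s - s
  have hc : σ c = -c := by simp only [c, map_sub, σ, hσ]; ring
  have hσ2 : σ 2 = 2 := map_ofNat σ 2
  refine not_oh_unip (hF ▸ hq.pow)
    (Matrix.SpecialLinearGroup.coeMonoidHom.comp (SU 3 F q).subtype) (QuotientGroup.mk' _)
    (QuotientGroup.mk'_surjective _) (fun _ _ => PSU_mk_eq_mk_iff hF (by norm_num))
    (fun s => s.1.2) h' (c := c) (β := -1 / 2) (δ := c ^ 2 / 2) (sub_ne_zero.2 hs)
    (x := ⟨_, mem 1 (-1 / 2) ?_⟩) (y := ⟨_, mem 0 c ?_⟩) (b := ⟨_, mem c (c ^ 2 / 2) ?_⟩) ?_ ?_ ?_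
  · simp only [map_div₀, map_neg, map_one, hσ2]; field_simp; ring
  · rw [hc]; ring
  · simp only [map_div₀, map_pow, hc, hσ2]; field_simp; ring
  · change gm _ _ _ _ _ = _
    rw [map_one]
  · change gm _ _ _ _ _ = _
    rw [map_zero]
  · change gm _ _ _ _ _ = _
    rw [hc]

theorem not_oh_psu34 [Fintype F] (hF : Fintype.card F = 16) : ¬ OH (PSU 3 F 4) := by
  have hF' : Fintype.card F = 4 ^ 2 := hF
  have h2 : (2 : F) = 0 := by
    have := FiniteField.cast_card_eq_zero F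
    rw [hF, show 16 = 2 ^ 4 from rfl] at this
    push_cast at this
    exact pow_eq_zero_iff (n := 4) (by norm_num) |>.1 (by linear_combination this)
  obtain ⟨a', ha, ha3⟩ := CITCor.exists_norm_one hF' (by norm_num)
  obtain ⟨a, h5, h3⟩ : ∃ a : F, a ^ 5 = 1 ∧ a ^ 3 ≠ 1 :=
    ⟨a', by simpa using congrArg Units.val ha, fun h => ha3 (Units.ext (by simpa using h))⟩
  have h0 : a ≠ 0 := fun h => by simp [h] at h5
  have h1 : a - 1 ≠ 0 := fun h => h3 (by rw [sub_eq_zero.1 h, one_pow])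
  have hk : ∀ k, (a ^ k) ^ 5 = 1 := fun k => by rw [← pow_mul, mul_comm, pow_mul, h5, one_pow]
  have hd : ∀ i j k : ℕ, a ^ i * a ^ j * a ^ k = 1 → ∃ x : SU 3 F 4,
      x.1.1 = diagonal ![a ^ i, a ^ j, a ^ k] ∧ x.1.1 ^ 5 = 1 := fun i j k h => by
    refine ⟨⟨⟨diagonal ![a ^ i, a ^ j, a ^ k], by simpa [Fin.prod_univ_three] using h⟩,
      fun u v => ?_⟩, rfl, ?_⟩
    · change hermForm 3 F _ (diagonal _ *ᵥ u) (diagonal _ *ᵥ v) = _
      simp only [hermForm, Fin.sum_univ_three, mulVec_diagonal, mul_pow, cons_val]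
      linear_combination u 0 * v 0 ^ 4 * hk i + u 1 * v 1 ^ 4 * hk j + u 2 * v 2 ^ 4 * hk k
    · change diagonal _ ^ 5 = 1
      rw [diagonal_pow, ← diagonal_one]
      congr 1
      ext l; fin_cases l <;> exact hk _
  obtain ⟨x, hx, hx5⟩ := hd 0 1 4 (by linear_combination h5)
  obtain ⟨y, hy, hy5⟩ := hd 1 1 3 (by linear_combination h5)
  let T : Matrix.SpecialLinearGroup (Fin 3) F := ⟨!![0, 1, 0; 1, 0, 0; 0, 0, 1], by
    simp [det_fin_three]; linear_combination -h2⟩
  have hT : T ∈ SU 3 F 4 := fun u v => by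
    change hermForm 3 F _ (T.1 *ᵥ u) (T.1 *ᵥ v) = _
    simp [hermForm, T, Fin.sum_univ_three, mulVec, dotProduct]
    ring
  have : Fact (Nat.Prime 5) := ⟨by norm_num⟩
  refine not_oh_three (Matrix.SpecialLinearGroup.coeMonoidHom.comp (SU 3 F 4).subtype)
    (QuotientGroup.mk' _) (QuotientGroup.mk'_surjective _)
    (fun _ _ => PSU_mk_eq_mk_iff hF' (by norm_num)) (fun s => s.1.2) (n := 5) (by decide)
    (fun c h1 h2 => ?_) (x := x) (y := y) (b := ⟨T, hT⟩) hx5 hy5 (fun c hc => ?_)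
    (v := ![1, 1, 1]) ?_ ?_ ?_ fun c hc => ?_
  · linear_combination (c ^ 3 + 1) * h2 - c * h1
  · have h6 := congrFun (congrFun (hy.symm.trans hc) 0) 0
    have h7 := congrFun (congrFun (hy.symm.trans hc) 2) 2
    simp at h6 h7
    exact h1 (by linear_combination h5 - (a ^ 2 + 1) * (h7 - h6))
  · change (of ![_, x.1.1 *ᵥ _, (x.1.1 * x.1.1) *ᵥ _]).det ≠ 0
    rw [hx]
    simp [det_fin_three, mulVec, dotProduct, Fin.sum_univ_three, diagonal_apply]
    intro h
    have h4 : a ^ 4 - 1 ≠ 0 := fun h => h1 (by linear_combination h5 - a * h)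
    exact mul_ne_zero (mul_ne_zero h1 h4) (mul_ne_zero h0 (sub_ne_zero.2 h3))
      (by linear_combination h)
  · change Commute x.1.1 y.1.1
    rw [hx, hy]; exact commute_diagonal _ _
  · change T.1 * y.1.1 = y.1.1 * T.1
    rw [hy]
    ext i j; fin_cases i <;> fin_cases j <;> simp [T]
  · change x.1.1 * T.1 = c • (T.1 * x.1.1) at hc
    rw [hx] at hc
    have h6 := congrFun (congrFun hc 1) 0
    have h7 := congrFun (congrFun hc 2) 2
    simp [T, h0, vecMul, dotProduct, Fin.sum_univ_three] at h6 h7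
    exact h1 (by rw [h6, h7, sub_self])

theorem gl23_aux (R : Subgroup (GL (Fin 2) (ZMod 3))) [R.Normal] (hR : Nat.card R = 16)
    (hi : R.index = 3) : False := by
  let s : GL (Fin 2) (ZMod 3) := ⟨!![1, 0; 0, 2], !![1, 0; 0, 2], by decide, by decide⟩
  let t : GL (Fin 2) (ZMod 3) := ⟨!![1, 1; 0, 2], !![1, 1; 0, 2], by decide, by decide⟩
  have h3 := pow_card_eq_one' (x := (⟨_, mul_mem (R.pow_index_mem s) (R.pow_index_mem t)⟩ : R))
  have h4 : (s ^ R.index * t ^ R.index) ^ Nat.card R = 1 := congrArg Subtype.val h3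
  rw [hR, hi] at h4
  exact absurd (congrArg Units.val h4) (by decide +kernel)

theorem not_isHom_m11 {G : Type*} [Group G] [Finite G] (hG : IsM11 G) : ¬ IsHom G := by
  intro h
  have : Fact (Nat.Prime 3) := ⟨by norm_num⟩
  obtain ⟨P⟩ : Nonempty (Sylow 3 G) := inferInstance
  have hP : Nat.card P = 3 ^ 2 := by
    rw [P.card_eq_multiplicity, hG.2, show 7920 = 3 ^ 2 * 880 from rfl,
      Nat.factorization_mul (by norm_num) (by norm_num), Nat.Prime.factorization_pow (by norm_num)]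
    simp [Nat.factorization_eq_zero_of_not_dvd]
  have hc : IsMulCommutative P := IsPGroup.isMulCommutative_of_card_eq_prime_sq hP
  set f := (P : Subgroup G).normalizerMonoidHom
  have h1 : Nat.card f.ker * Nat.card f.range = 144 := by
    rw [← index_ker, card_mul_index, Agent.S0434.result hG P]
  have h2 : ¬ 2 ∣ Nat.card f.ker := fun h2 => by
    obtain ⟨t, ht⟩ := exists_prime_orderOf_dvd_card' 2 h2
    have h3 := Agent.S0435.result hG t (by rw [orderOf_coe, orderOf_coe, ht])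
    have h4 : t.1.1 ∈ centralizer (P : Set G) := (normalizerMonoidHom_ker _).le t.2
    have := card_dvd_of_le (show (P : Subgroup G) ≤ centralizer {t.1.1} from
      fun x hx => mem_centralizer_singleton_iff.2 (mem_centralizer_iff.1 h4 x hx))
    rw [h3, hP] at this
    omega
  have h16 : 2 ^ 4 ∣ Nat.card f.range :=
    (((Nat.Prime.coprime_iff_not_dvd Nat.prime_two).2 h2).pow_left 4).dvd_of_dvd_mul_left
      (by rw [h1]; norm_num)
  have h9 : 9 ∣ Nat.card f.ker := by
    rw [show 9 = 3 ^ 2 from rfl, ← hP, ← Nat.card_congr (subgroupOfEquivOfLe le_normalizer).toEquiv,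
      normalizerMonoidHom_ker]
    exact card_dvd_of_le (comap_mono (le_centralizer _))
  have hR : Nat.card f.range = 16 := by
    obtain ⟨a, ha⟩ := h16
    obtain ⟨b, hb⟩ := h9
    rw [ha, hb] at h1
    rw [ha, Nat.eq_one_of_mul_eq_one_left (show b * a = 1 by nlinarith)]
    rfl
  by_cases hcy : IsCyclic P
  · have := f.range.card_subgroup_dvd_card
    rw [hR, IsCyclic.card_mulAut, hP] at this
    revert this; decide
  have : Solv.ElemAb 3 P := .of_isMulCommutative fun a => by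
    have := Monoid.pow_exponent_eq_one a
    rwa [(not_isCyclic_iff_exponent_eq_prime Nat.prime_three hP).1 hcy] at this
  obtain ⟨e⟩ := Solv.Vec.nonempty_autEquivGL hP
  have := (h.normal_range P).map e.toMonoidHom e.surjective
  set R := f.range.map e.toMonoidHom
  have hR' : Nat.card R = 16 := by rw [card_map_of_injective e.injective, hR]
  have hi : R.index = 3 := by
    have := R.card_mul_index
    rw [hR', card_GL_field] at this
    simp [Fin.prod_univ_two] at this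
    omega
  exact gl23_aux R hR' hi

end Cfsg.Lib.Homog
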