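import Cfsg.Agent.Hom.Basic
import Cfsg.Agent.Solv.ElemAb
import Cfsg.Agent.Solv.Cores
import Cfsg.Agent.Solv.MinNormal
import Cfsg.Agent.Class.PSLSimple
import Cfsg.Agent.Known.PSLAutTv
import Cfsg.Agent.Char.Burnside
import Cfsg.Agent.FT.Final
import Cfsg.Agent.S1947

/-!
# Normal `p`-subgroups of perfect homogeneous groups
-/

set_option autoImplicit false

namespace Cfsg.Lib.Homog

open Subgroup Cfsg.Lib.Trans Cfsg.Lib.Solv

theorem eq_bot_of_isSolvable {H : Type*} [Group H] (R : Subgroup H) [Group.IsPerfect R]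
    [Group.IsSolvable R] : R = ⊥ := by
  by_contra h
  have := (nontrivial_iff_ne_bot R).2 h
  exact Group.IsPerfect.not_isSolvable R inferInstance

theorem gl_eq_bot {p n : ℕ} [hp : Fact p.Prime] (R : Subgroup (GL (Fin n) (ZMod p))) [R.Normal]
    [Group.IsPerfect R] (h : ¬ p ∣ Nat.card R ∨ p = 2 ∧ n ≤ 2) : R = ⊥ := by
  by_cases h1 : n ≤ 1
  · have : Subsingleton (Fin n) := Fin.subsingleton_iff_le_one.2 h1
    have : Group.IsSolvable (GL (Fin n) (ZMod p)) := Group.isSolvable_of_comm fun a b => by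
      ext i j
      simp [Matrix.mul_apply, Fintype.sum_subsingleton _ i, Subsingleton.elim j i, mul_comm]
    exact eq_bot_of_isSolvable R
  by_cases h2 : n = 2 ∧ p ≤ 3
  · obtain ⟨rfl, h3⟩ := h2
    have : Group.IsSolvable (GL (Fin 2) (ZMod p)) := by
      refine Char.isSolvable_of_card_dvd (a := 4) (b := 1) Nat.prime_two Nat.prime_three _ ?_
      rw [Matrix.card_GL_field, ZMod.card]
      have := hp.out.two_le
      interval_cases p <;> decide
    exact eq_bot_of_isSolvable R
  replace h : ¬ p ∣ Nat.card R := h.resolve_right fun h => h2 (by omega)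
  have : IsSimpleGroup (Matrix.ProjectiveSpecialLinearGroup (Fin n) (ZMod p)) := by
    by_cases h3 : n = 2
    · subst h3
      exact Matrix.ProjectiveSpecialLinearGroup.rank_two_simple (by rw [Nat.card_zmod]; omega)
    · exact Class.PSL_isSimpleGroup (by simp; omega)
  have hd : R ≤ (Matrix.GeneralLinearGroup.det).ker := by
    rw [← Subgroup.map_eq_bot_iff]
    have := Group.IsPerfect.map (H := R) (f := Matrix.GeneralLinearGroup.det)
    exact eq_bot_of_isSolvable _
  set R' := R.comap (Matrix.SpecialLinearGroup.toGL (n := Fin n) (R := ZMod p))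
  have hR : R'.map Matrix.SpecialLinearGroup.toGL = R := map_comap_eq_self fun g hg =>
    ⟨⟨g, congrArg Units.val (hd hg)⟩, Units.ext rfl⟩
  have hc : Nat.card R' = Nat.card R := by
    rw [← hR, card_map_of_injective Matrix.SpecialLinearGroup.toGL_injective]
  rcases (Normal.map (H := R') inferInstance (QuotientGroup.mk' (center _))
    (QuotientGroup.mk'_surjective _)).eq_bot_or_eq_top with h3 | h3
  · rw [Subgroup.map_eq_bot_iff, QuotientGroup.ker_mk'] at h3
    have : Group.IsSolvable R := Group.isSolvable_of_comm fun a b => by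
      obtain ⟨x, hx, h4⟩ := hR.ge a.2
      obtain ⟨y, -, h5⟩ := hR.ge b.2
      apply Subtype.ext
      rw [coe_mul, coe_mul, ← h4, ← h5, ← map_mul, ← map_mul, mem_center_iff.1 (h3 hx)]
    exact eq_bot_of_isSolvable R
  · have hij : (⟨0, by omega⟩ : Fin n) ≠ ⟨1, by omega⟩ := by simp
    have h4 : orderOf (QuotientGroup.mk (Matrix.SpecialLinearGroup.transvection hij (1 : ZMod p)) :
        Matrix.ProjectiveSpecialLinearGroup (Fin n) (ZMod p)) = p := orderOf_eq_prime
      (by rw [← QuotientGroup.mk_pow, Known.transvection_pow_char, QuotientGroup.mk_one])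
      (by simp [QuotientGroup.eq_one_iff, Matrix.SpecialLinearGroup.transvection_mem_center_iff])
    refine absurd ?_ h
    rw [← hc]
    refine h4.symm.dvd.trans ((_root_.orderOf_dvd_natCard _).trans ?_)
    rw [← card_top, ← h3]
    exact Subgroup.card_map_dvd _ _

variable {G : Type*} [Group G] [Finite G] {p : ℕ} [hp : Fact p.Prime]

theorem sylow_eq_bot [Group.IsPerfect G] {N : Subgroup G} [N.Normal] {P : Sylow p G}
    (h : N.IsComplement' (P : Subgroup G)) : ¬ p ∣ Nat.card G := by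
  obtain ⟨k, hk⟩ := IsPGroup.iff_card.1 P.isPGroup'
  have h1 : IsPGroup p (G ⧸ N) := .of_card (h.symm.index_eq_card.trans hk)
  have : Subsingleton (G ⧸ N) := by
    by_contra h2
    rw [not_subsingleton_iff_nontrivial] at h2
    exact Group.IsPerfect.not_isNilpotent _ h1.isNilpotent
  have h3 : Nat.card P = 1 := h.symm.index_eq_card.symm.trans Nat.card_unique
  rw [← (P : Subgroup G).card_mul_index, h3, one_mul]
  exact P.not_dvd_index

theorem IsHom.comm_of_pCore (hG : IsHom G) (hO : pCore p G ≠ ⊥) {x y : G} (hx : x ^ p = 1)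
    (hy : y ^ p = 1) : x * y = y * x := by
  have hQ := pCore_isPGroup p G
  have := (nontrivial_iff_ne_bot _).2 hO
  have := hQ.center_nontrivial
  obtain ⟨k, hk0, hk⟩ := (hQ.to_subgroup (center _)).nontrivial_iff_card.1 inferInstance
  obtain ⟨z, hz⟩ := exists_prime_orderOf_dvd_card' (G := center (pCore p G)) p
    (hk ▸ dvd_pow_self p hk0.ne')
  have hz' : orderOf z.1.1 = p := by rw [orderOf_coe, orderOf_coe, hz]
  by_cases hx1 : x = 1
  · simp [hx1]
  by_cases hy1 : y = 1
  · simp [hy1]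
  exact mem_centralizer_iff.1 (hG.mem_char (centralizer (pCore p G : Set G))
    (hz'.trans (orderOf_eq_prime hy hy1).symm)
    (mem_centralizer_iff.2 fun a ha => congrArg Subtype.val (mem_center_iff.1 z.2 ⟨a, ha⟩))) x
    (hG.mem_char _ (hz'.trans (orderOf_eq_prime hx hx1).symm) z.1.2)

/-- The subgroup of elements of order dividing `p`, when these commute. -/
def omg (h : ∀ x y : G, x ^ p = 1 → y ^ p = 1 → x * y = y * x) : Subgroup G where
  carrier := {x | x ^ p = 1}
  one_mem' := one_pow p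
  mul_mem' {x y} hx hy := by
    change (x * y) ^ p = 1
    rw [Commute.mul_pow (h x y hx hy), hx, hy, one_mul]
  inv_mem' {x} hx := by
    change x⁻¹ ^ p = 1
    rw [inv_pow, hx, inv_one]

theorem IsHom.mem_center [Group.IsPerfect G] (hG : IsHom G) (hO : pCore p G ≠ ⊥)
    (h2 : p = 2 → PRankLE 2 2 G) {x : G} (hx : x ^ p = 1) : x ∈ center G := by
  set E := omg fun x y => hG.comm_of_pCore hO (x := x) (y := y)
  have hE : ∀ x, x ∈ E ↔ x ^ p = 1 := fun x => Iff.rfl
  have : E.Normal := ⟨fun a ha g => by rw [hE, conj_pow, (hE a).1 ha]; simp⟩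
  have hc : IsMulCommutative E := ⟨⟨fun a b => Subtype.ext (hG.comm_of_pCore hO a.2 b.2)⟩⟩
  have : ElemAb p E := .of_subgroup fun a ha => ha
  obtain ⟨n, hn⟩ := IsPGroup.iff_card.1 (ElemAb.isPGroup p E)
  obtain ⟨e⟩ := Vec.nonempty_autEquivGL hn
  set f : G →* MulAut E := MulAut.conjNormal
  have hr : E.normalizerMonoidHom.range = f.range := le_antisymm
    (by rintro _ ⟨g, rfl⟩; exact ⟨g, by ext; rfl⟩)
    (by rintro _ ⟨g, rfl⟩; exact ⟨⟨g, le_normalizer_of_normal (mem_top g)⟩, by ext; rfl⟩)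
  have hker : ∀ g, g ∈ f.ker ↔ g ∈ centralizer (E : Set G) := fun g =>
    ⟨fun h => mem_centralizer_of_conj_eq fun a ha => by
      have := congrArg Subtype.val (DFunLike.congr_fun h ⟨a, ha⟩)
      exact this,
    fun h => MulEquiv.ext fun a => Subtype.ext (conj_eq_of_mem_centralizer h a.2)⟩
  have : (f.range.map e.toMonoidHom).Normal :=
    (hr ▸ hG.normal_range E : f.range.Normal).map e.toMonoidHom e.surjective
  have := Group.IsPerfect.range (f := f)
  have := Group.IsPerfect.map (H := f.range) (f := e.toMonoidHom)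
  have hb : f.range = ⊥ := by
    rw [← map_eq_bot_iff_of_injective (f := e.toMonoidHom) _ e.injective]
    refine gl_eq_bot _ ?_
    by_cases hp2 : p = 2
    · subst hp2
      refine .inr ⟨rfl, (Nat.pow_le_pow_iff_right (a := 2) (by norm_num)).1 ?_⟩
      exact hn ▸ h2 rfl E hc fun a ha => ha
    left
    rw [card_map_of_injective e.injective, ← index_ker]
    obtain ⟨P⟩ : Nonempty (Sylow p G) := inferInstance
    suffices h : (P : Subgroup G) ≤ f.ker from fun h' => P.not_dvd_index (h'.trans (index_dvd_of_le h))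
    set C := centralizer (E : Set G)
    have inv : ∀ φ : G ≃* G, (∀ a ∈ E, φ a = a⁻¹) → ∀ g, g⁻¹ * φ g ∈ C := fun φ h g =>
      mem_centralizer_of_conj_eq fun a ha => by
        have h1 := h _ (Normal.conj_mem inferInstance _ (inv_mem ha) g)
        rw [map_mul, map_mul, h _ (inv_mem ha), inv_inv, map_inv] at h1
        calc g⁻¹ * φ g * a * (g⁻¹ * φ g)⁻¹ = g⁻¹ * (φ g * a * (φ g)⁻¹) * g := by group
          _ = a := by rw [h1]; group
    obtain ⟨φ, hφ⟩ := hG.ext_hom E (MonoidHom.mk' (fun a => (a : G)⁻¹) fun a b => by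
      rw [coe_mul, hG.comm_of_pCore hO a.2 b.2, mul_inv_rev]) fun a b h =>
        Subtype.ext (inv_injective h)
    replace hφ : ∀ a ∈ E, φ a = a⁻¹ := fun a ha => hφ ⟨a, ha⟩
    obtain ⟨l, hl, hlP⟩ := (isSylowIn_of_le P (le_sup_left : _ ≤ (P : Subgroup G) ⊔ C)).exists_cj_le
      (P.isPGroup'.map φ.toMonoidHom) (by
        rintro _ ⟨x, hx, rfl⟩
        simpa using mul_mem (mem_sup_left hx : x ∈ (P : Subgroup G) ⊔ C)
          (mem_sup_right (inv φ hφ x)))
    obtain ⟨y, hy, c, hc, rfl⟩ := mem_sup_of_normal_right.1 hl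
    set ψ := φ.trans (MulAut.conj c)
    have hψ : ∀ a ∈ E, ψ a = a⁻¹ := fun a ha => by
      change c * φ a * c⁻¹ = _
      rw [hφ a ha, conj_eq_of_mem_centralizer hc (inv_mem ha)]
    have hψP : ∀ x ∈ (P : Subgroup G), ψ x ∈ (P : Subgroup G) := fun x hx => by
      have := mul_mem (mul_mem (inv_mem hy) (hlP (conj_mem_cj.2 (mem_map_of_mem _ hx)))) hy
      change c * φ x * c⁻¹ ∈ _
      simpa [mul_assoc] using this
    have fpf : ∀ x ∈ (P : Subgroup G), ψ x = x → x = 1 := fun x hx h => by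
      obtain ⟨k, hk⟩ := P.isPGroup' ⟨x, hx⟩
      replace hk : x ^ p ^ k = 1 := congrArg Subtype.val hk
      induction k with
      | zero => simpa using hk
      | succ k ih =>
        refine ih ?_
        have h1 := hψ (x ^ p ^ k) (by rw [hE, ← pow_mul, ← pow_succ, hk])
        rw [map_pow, h, eq_inv_iff_mul_eq_one, ← pow_two] at h1
        have h3 : (x ^ p ^ k) ^ p = 1 := by rw [← pow_mul, ← pow_succ, hk]
        have := pow_gcd_eq_one.2 ⟨h1, h3⟩
        rwa [(Nat.coprime_primes Nat.prime_two hp.out).2 (Ne.symm hp2), pow_one] at this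
    have inj : ∀ u ∈ (P : Subgroup G), ∀ w ∈ (P : Subgroup G), u⁻¹ * ψ u = w⁻¹ * ψ w → u = w :=
      fun u hu w hw h => mul_inv_eq_one.1 (fpf _ (mul_mem hu (inv_mem hw)) (by
        rw [map_mul, map_inv]
        calc ψ u * (ψ w)⁻¹ = u * (u⁻¹ * ψ u) * (ψ w)⁻¹ := by group
          _ = _ := by rw [h]; group))
    intro u hu
    obtain ⟨w, hw⟩ := Finite.surjective_of_injective
      (f := fun w : ((P : Subgroup G) ⊓ C : Subgroup G) => (⟨w⁻¹ * ψ w,
        mul_mem ((P : Subgroup G).inv_mem w.2.1) (hψP _ w.2.1), inv ψ hψ w⟩ : ((P : Subgroup G) ⊓ C : Subgroup G)))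
      (fun a b h => Subtype.ext (inj _ a.2.1 _ b.2.1 (congrArg Subtype.val h)))
      ⟨u⁻¹ * ψ u, mul_mem ((P : Subgroup G).inv_mem hu) (hψP _ hu), inv ψ hψ u⟩
    rw [hker, ← inj _ w.2.1 _ hu (congrArg Subtype.val hw)]
    exact w.2.2
  refine mem_center_iff.2 fun g => (mem_centralizer_iff.1 ((hker g).1 ?_) x hx).symm
  exact mem_bot.1 (hb ▸ ⟨g, rfl⟩ : f g ∈ (⊥ : Subgroup _))

theorem IsHom.oddCore_eq_bot [Group.IsPerfect G] (hG : IsHom G) : oddCore G = ⊥ := by
  by_contra h
  have ho := coprime_card_pPrimeCore 2 G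
  have := FT.odd_order_solvable (Nat.coprime_two_right.1 ho)
  obtain ⟨q, N, hq, hN, hle, -, -, hP⟩ := exists_isMinNormal_elementary_le (oddCore G) h
  have := Fact.mk hq
  have := (nontrivial_iff_ne_bot _).2 hN.ne_bot
  obtain ⟨k, hk0, hk⟩ := hP.nontrivial_iff_card.1 inferInstance
  have hd : q ∣ Nat.card N := hk ▸ dvd_pow_self q hk0.ne'
  have h2 : q ≠ 2 := fun h => by
    have := Nat.Coprime.coprime_dvd_left (hd.trans (Subgroup.card_dvd_of_le hle)) ho
    simp [h] at this
  obtain ⟨P, M, _, hM⟩ := Agent.S1947.result (G := G) (p := q) 1 fun a ha => by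
    rw [Subgroup.upperCentralSeries_one]
    exact hG.mem_center (fun h => hN.ne_bot (le_bot_iff.1 (h ▸ le_pCore hN.normal hP)))
      (fun h => absurd h h2) (ha.resolve_right fun h => h2 h.1)
  exact sylow_eq_bot hM (hd.trans N.card_subgroup_dvd_card)

end Cfsg.Lib.Homog
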