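import Cfsg.Agent.Hom.TwoLocal
import Cfsg.Agent.Hom.Central
import Cfsg.Agent.Hom.L3
import Cfsg.Agent.Hom.Odd
import Cfsg.Agent.S0482
import Cfsg.Agent.Inst.S0483
import Cfsg.Agent.Rank2.QuatSylow
import Cfsg.Agent.Block.ZStar
import Cfsg.Agent.Known.PSL2Recog4
import Cfsg.Agent.Class.SL2Dickson
import Cfsg.Agent.Class.FieldIso
import Cfsg.Agent.Solv.Conj

/-!
# Perfect homogeneous finite groups
-/

set_option autoImplicit false

namespace Cfsg.Lib.Homog

open Subgroup Cfsg.Lib.Trans Cfsg.Lib.Solv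
open scoped MatrixGroups

variable {G : Type*} [Group G] [Finite G]

theorem orderOf_two {t : G} (h : t * t = 1) (h1 : t ≠ 1) : orderOf t = 2 :=
  orderOf_eq_prime (by rw [pow_two, h]) h1

theorem IsHom.unique_invol [Group.IsPerfect G] (hG : IsHom G)
    (hZ : ∀ t : G, t * t = 1 → t ∈ center G) {v w : G} (hv : v * v = 1) (hw : w * w = 1)
    (h1 : v ≠ 1) (h2 : w ≠ 1) : v = w := by
  by_contra hne
  obtain ⟨S⟩ : Nonempty (Sylow 2 G) := inferInstance
  obtain ⟨N, _, hN⟩ := hG.exists_complement hZ hv hw h1 h2 hne S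
  exact sylow_eq_bot hN (orderOf_two hv h1 ▸ orderOf_dvd_natCard v)

theorem IsHom.pRankLE [Group.IsPerfect G] (hG : IsHom G) : PRankLE 2 2 G := by
  intro A hc hA
  by_contra h4
  have hE : EA A := ⟨fun a ha b hb => congrArg Subtype.val (hc.1.1 ⟨a, ha⟩ ⟨b, hb⟩),
    fun a ha => by rw [← pow_two, hA a ha]⟩
  obtain ⟨n, hn⟩ := IsPGroup.iff_card.1 hE.isPGroup
  have h8 : 8 ≤ Nat.card A := by
    rw [hn] at h4 ⊢
    exact Nat.pow_le_pow_right (n := 2) (i := 3) two_pos
      ((Nat.pow_lt_pow_iff_right one_lt_two).1 (not_le.1 h4))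
  obtain ⟨z, hz⟩ := hG.exists_isolated hE h8
  have hZ : ∀ t : G, t * t = 1 → t ∈ center G := fun t ht => by
    by_cases h1 : t = 1
    · exact h1 ▸ one_mem _
    · exact hG.mem_char _ (hz.1.trans (orderOf_two ht h1).symm)
        (Block.Princ.zstar_center hz hG.oddCore_eq_bot)
  obtain ⟨a, haA, ha⟩ := EA.exists_notMem (E := A) (U := ⊥) (by rw [card_bot]; omega)
  have ha1 : a ≠ 1 := by simpa using ha
  obtain ⟨b, hbA, hb⟩ := EA.exists_notMem (E := A) (U := zpowers a) (by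
    rw [Nat.card_zpowers, orderOf_two (hE.sq a haA) ha1]; omega)
  exact hb (hG.unique_invol hZ (hE.sq a haA) (hE.sq b hbA) ha1 (fun h => hb (h ▸ one_mem _)) ▸
    mem_zpowers a)

theorem IsHom.simple [IsSimpleGroup G] (hna : ¬ IsMulCommutative G) (hG : IsHom G) :
    ∃ (F : Type) (_ : Field F) (_ : Fintype F), (Fintype.card F = 5 ∨ Fintype.card F = 7) ∧
      Nonempty (G ≃* PSL(2, F)) := by
  have := Known.isPerfect_of_simple hna
  rcases Agent.S0482.result hna hG.pRankLE with ⟨F, _, _, h1, h2, ⟨e⟩⟩ | ⟨F, _, _, h, ⟨e⟩⟩ |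
    ⟨F, _, _, q, h1, h2, ⟨e⟩⟩ | ⟨F, _, _, h, ⟨e⟩⟩ | ⟨⟨e⟩⟩ | h
  · exact ⟨F, _, _, (hG.oh.of_equiv e).card_eq h1 (by omega), ⟨e⟩⟩
  · exact absurd (hG.oh.of_equiv e) (not_oh_psl3 h)
  · exact absurd (hG.oh.of_equiv e) (not_oh_psu3 h1 h2)
  · exact absurd (hG.oh.of_equiv e) (not_oh_psu34 h)
  · exact absurd (hG.oh.of_equiv e) not_oh_alt7
  · exact absurd hG (not_isHom_m11 h)

theorem IsHom.sl25 [Group.IsPerfect G] (hG : IsHom G) (h : pCore 2 G ≠ ⊥) :
    ∃ (F : Type) (_ : Field F) (_ : Fintype F), Fintype.card F = 5 ∧ Nonempty (G ≃* SL(2, F)) := by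
  have : Nontrivial G := by
    by_contra h1
    rw [not_nontrivial_iff_subsingleton] at h1
    exact h (Subsingleton.elim _ _)
  have hZ : ∀ t : G, t * t = 1 → t ∈ center G := fun t ht =>
    hG.mem_center h (fun _ => hG.pRankLE) (by rw [pow_two, ht])
  rcases Rank2.perfect_uInv hG.oddCore_eq_bot (fun R _ x _ y _ hx hy hx2 hy2 =>
    hG.unique_invol hZ (by rw [← pow_two, hx2]) (by rw [← pow_two, hy2]) hx hy) with
    ⟨F, _, _, h1, h2, ⟨e⟩⟩ | ⟨h1, ⟨e⟩⟩
  · have h3 := OH.card_eq h1 h2 ((hG.oh.of_equiv e).quotient fun z =>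
      ⟨1, Subtype.ext (by simpa using Class.sl2_center_sq z.2)⟩)
    exact ⟨F, _, _, h3.resolve_right fun h7 => not_isHom_sl27 h7 hG e, ⟨e⟩⟩
  · exact absurd ((hG.oh.quotient (.of_card (n := 1) h1)).of_equiv e) not_oh_alt7

theorem exists_invol {A : Subgroup G} [hA : A.Normal] (hO : oddCore G = ⊥) (h : A ≠ ⊥) :
    ∃ t ∈ A, t * t = 1 ∧ t ≠ 1 := by
  have h2 : 2 ∣ Nat.card A := by
    by_contra h2
    exact h (le_bot_iff.1 (hO ▸ le_pPrimeCore hA
      ((Nat.prime_two.coprime_iff_not_dvd.2 h2).symm)))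
  obtain ⟨t, ht⟩ := exists_prime_orderOf_dvd_card' 2 h2
  rw [← orderOf_coe] at ht
  exact ⟨t, t.2, by rw [← pow_two, ← ht, pow_orderOf_eq_one], fun h => by simp [h] at ht⟩

theorem inf_ne_bot (hO : oddCore G = ⊥) (h2 : pCore 2 G = ⊥) (hr : PRankLE 2 2 G)
    {A B : Subgroup G} [hA : A.Normal] [B.Normal] (h : A ≠ ⊥) (h' : B ≠ ⊥) : A ⊓ B ≠ ⊥ := by
  intro hAB
  obtain ⟨z, hzA, hz, hz1⟩ := exists_invol hO h
  obtain ⟨t, htB, ht, ht1⟩ := exists_invol hO h'
  have hc := le_centralizer_of_disjoint (H := B) (K := A) le_normalizer_of_normal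
    le_normalizer_of_normal (inf_comm A B ▸ hAB) htB
  have hiso : IsIsolatedInvolution z := ⟨orderOf_two hz hz1, fun g hg => by
    by_contra hne
    set w := g * z * g⁻¹ with hw
    have hwA : w ∈ A := hA.conj_mem z hzA g
    have hw2 : w * w = 1 := by simp [hw, mul_assoc, ← mul_assoc z, hz]
    have hw1 : w ≠ 1 := by simpa [hw] using hz1
    have czt : Commute z t := mem_centralizer_iff.1 hc z hzA
    have cwt : Commute w t := mem_centralizer_iff.1 hc w hwA
    let f : Multiplicative (ZMod 2 × ZMod 2 × ZMod 2) →* G := MonoidHom.mk'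
      (fun x => z ^ x.toAdd.1.val * (w ^ x.toAdd.2.1.val * t ^ x.toAdd.2.2.val)) fun x y => by
        have key : ∀ {s : G}, s * s = 1 → ∀ a b : ZMod 2,
            s ^ (a + b).val = s ^ a.val * s ^ b.val := fun {s} hs a b => by
          rw [← pow_add, ZMod.val_add, ← pow_eq_pow_mod _ (by rw [pow_two, hs])]
        simp only [toAdd_mul, Prod.fst_add, Prod.snd_add, key hz, key hw2, key ht]
        rw [(cwt.pow_pow _ _).mul_mul_mul_comm,
          ((hg.pow_pow _ _).mul_right (czt.pow_pow _ _)).mul_mul_mul_comm]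
    have hf : Function.Injective f := (injective_iff_map_eq_one f).2 fun x hx => by
      have hzw : z * w ≠ 1 := fun h => hne (by
        rw [← mul_left_cancel_iff (a := z), h, hz])
      have hn : ∀ u ∈ A, u * t ≠ 1 := fun u hu h => ht1 (mem_bot.1 (hAB ▸
        (⟨by simpa [eq_inv_of_mul_eq_one_right h] using hu, htB⟩ : t ∈ A ⊓ B)))
      have h3 := hn _ (mul_mem hzA hwA)
      rw [mul_assoc] at h3
      obtain ⟨a, b, c⟩ := x
      change z ^ a.val * (w ^ b.val * t ^ c.val) = 1 at hx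
      fin_cases a <;> fin_cases b <;> fin_cases c <;> first | rfl | skip
      all_goals simp [ZMod.val, hz1, hw1, ht1, hzw, hn z hzA, hn w hwA, h3] at hx
    have := hr f.range inferInstance (by
      rintro _ ⟨x, rfl⟩
      rw [← map_pow, show x ^ 2 = 1 by revert x; decide, map_one])
    rw [← Nat.card_congr (MonoidHom.ofInjective hf).toEquiv] at this
    simp at this⟩
  have hzc := Block.Princ.zstar_center hiso hO
  exact hz1 (mem_bot.1 (h2 ▸ le_pCore (normal_of_le_center (zpowers_le.2 hzc))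
    (isPGroup_zpowers ⟨1, by rw [pow_one, pow_two, hz]⟩) (mem_zpowers z)))

theorem exists_char_min [Nontrivial G] (hO : oddCore G = ⊥) (h2 : pCore 2 G = ⊥)
    (hr : PRankLE 2 2 G) : ∃ N : Subgroup G, IsMinNormal N ∧ N.Characteristic ∧
      ∀ A : Subgroup G, A.Normal → A ≠ ⊥ → N ≤ A := by
  obtain ⟨N, hN⟩ := exists_isMinNormal G
  have := hN.normal
  have h : ∀ A : Subgroup G, A.Normal → A ≠ ⊥ → N ≤ A := fun A _ hA =>
    hN.le_of_inf_ne_bot (inf_ne_bot hO h2 hr hN.ne_bot hA)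
  exact ⟨N, hN, characteristic_iff_le_map.2 fun φ => h _ (hN.normal.map _ φ.surjective)
    fun h0 => hN.ne_bot ((map_eq_bot_iff_of_injective _ φ.injective).1 h0), h⟩

omit [Finite G] in
theorem exists_sq_mem (K : Subgroup G) [K.Normal] [Group.IsPerfect K] {F : Type*} [Field F]
    [Fintype F] (hp : (Fintype.card F).Prime) (e : K ⧸ center K ≃* PSL(2, F)) (g : G) :
    ∃ k ∈ K, (k * g) * (k * g) ∈ centralizer (K : Set G) := by
  obtain ⟨k, hk⟩ := exists_sq_eq_one hp
    (MulAut.congr e (Known.autQuot K (MulAut.conjNormal g)))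
  obtain ⟨k, rfl⟩ := e.surjective k
  obtain ⟨k, rfl⟩ := QuotientGroup.mk_surjective k
  refine ⟨k, k.2, ?_⟩
  set α : MulAut K := MulAut.conjNormal ((k * g) * (k * g)) with hα
  have h1 : Known.autQuot K α = 1 := by
    apply (MulAut.congr e).injective
    have : MulAut.congr e (MulAut.conj (k : K ⧸ center K)) = MulAut.conj (e k) := by
      ext x; simp
    rw [map_one, ← hk, hα, ← this]
    simp only [map_mul, MulAut.conjNormal_val, Known.autQuot_conj]
  have h2 : ∀ x : K, x⁻¹ * α x ∈ center K := fun x => by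
    rw [← QuotientGroup.eq, ← Known.autQuot_mk, h1, MulAut.one_apply]
  let d : K →* center K := MonoidHom.mk' (fun x => ⟨_, h2 x⟩) fun x y => Subtype.ext (by
    change (x * y)⁻¹ * α (x * y) = x⁻¹ * α x * (y⁻¹ * α y)
    rw [map_mul, ← mul_assoc _ y⁻¹, ← mem_center_iff.1 (h2 x)]; group)
  have := Group.IsPerfect.range (f := d)
  have h3 := eq_bot_of_isSolvable d.range
  refine mem_centralizer_of_conj_eq fun x hx => ?_
  have h4 : d ⟨x, hx⟩ = 1 := mem_bot.1 (h3 ▸ ⟨_, rfl⟩ : d ⟨x, hx⟩ ∈ (⊥ : Subgroup _))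
  exact (congrArg Subtype.val (inv_mul_eq_one.1 (congrArg Subtype.val h4))).symm

theorem IsHom.isSimpleGroup [Group.IsPerfect G] [Nontrivial G] (hG : IsHom G)
    (h2 : pCore 2 G = ⊥) : IsSimpleGroup G := by
  have hO := hG.oddCore_eq_bot
  obtain ⟨N, hN, _, hmin⟩ := exists_char_min hO h2 hG.pRankLE
  have := (nontrivial_iff_ne_bot N).2 hN.ne_bot
  have hna : ¬ IsMulCommutative N := fun h => by
    obtain ⟨t, htN, ht, ht1⟩ := exists_invol hO hN.ne_bot
    refine hN.ne_bot (pCore_eq_bot_iff.1 h2 N hN.normal fun x => ⟨1, Subtype.ext ?_⟩)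
    simpa using hN.pow_eq_one_of_prime_dvd Nat.prime_two
      (orderOf_two ht ht1 ▸ N.orderOf_dvd_natCard htN) x x.2
  obtain ⟨M, hM, _, hmin'⟩ := exists_char_min (G := N)
    (pPrimeCore_eq_bot_of_isSubnormal hN.normal.isSubnormal hO)
    (pCore_eq_bot_of_isSubnormal hN.normal.isSubnormal h2) fun A hc hA => by
      rw [← card_map_of_injective N.subtype_injective]
      exact hG.pRankLE _ inferInstance (by rintro _ ⟨a, ha, rfl⟩; rw [← map_pow, hA a ha, map_one])
  have : IsSimpleGroup N := ⟨fun A hA => or_iff_not_imp_left.2 fun h => eq_top_iff.2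
    (((hN.eq_bot_or_top_of_characteristic M).resolve_left hM.ne_bot).ge.trans (hmin' A hA h))⟩
  have := Known.isPerfect_of_simple hna
  obtain ⟨F, _, _, hF, ⟨e⟩⟩ := (hG.char N).simple hna
  have hZ : center N = ⊥ := (Normal.eq_bot_or_eq_top inferInstance).resolve_right fun h =>
    hna ⟨⟨fun a b => mem_center_iff.1 (h ▸ mem_top b) a⟩⟩
  have hC : centralizer (N : Set G) = ⊥ := by
    by_contra h
    exact hna ⟨⟨fun a b => Subtype.ext (mem_centralizer_iff.1 (hmin _ inferInstance h b.2) a a.2)⟩⟩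
  have h3 : ∀ x : G ⧸ N, x * x = 1 := fun x => by
    obtain ⟨g, rfl⟩ := QuotientGroup.mk_surjective x
    obtain ⟨k, hk, h⟩ := exists_sq_mem N (by rcases hF with h | h <;> rw [h] <;> norm_num)
      ((QuotientGroup.quotientMulEquivOfEq hZ).trans (QuotientGroup.quotientBot.trans e)) g
    have := congrArg (QuotientGroup.mk : G → G ⧸ N) (mem_bot.1 (hC ▸ h))
    simpa [(QuotientGroup.eq_one_iff k).2 hk] using this
  have : IsMulCommutative (G ⧸ N) := ⟨⟨fun a b => by
    rw [← inv_eq_of_mul_eq_one_right (h3 (a * b)), mul_inv_rev, inv_eq_of_mul_eq_one_right (h3 a),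
      inv_eq_of_mul_eq_one_right (h3 b)]⟩⟩
  obtain rfl : N = ⊤ := eq_top_iff.2 fun g _ =>
    (QuotientGroup.eq_one_iff g).1 (Subsingleton.elim _ _)
  exact topEquiv.symm.isSimpleGroup

theorem IsHom.perfect [Group.IsPerfect G] [Nontrivial G] (hG : IsHom G) :
    (¬ IsSimpleGroup G → ∃ (F : Type) (_ : Field F) (_ : Fintype F), Fintype.card F = 5 ∧
      Nonempty (G ≃* SL(2, F))) ∧
    (IsSimpleGroup G → ∃ (F : Type) (_ : Field F) (_ : Fintype F),
      (Fintype.card F = 5 ∨ Fintype.card F = 7) ∧ Nonempty (G ≃* PSL(2, F))) :=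
  ⟨fun h => hG.sl25 fun h2 => h (hG.isSimpleGroup h2),
    fun _ => hG.simple (Group.IsPerfect.not_isMulCommutative G)⟩

end Cfsg.Lib.Homog
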